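import Groth.Agent.L28.DimClosure.Ring
import Groth.Agent.L22.SchemeDim
import Mathlib.AlgebraicGeometry.Morphisms.FiniteType
import Mathlib.RingTheory.Spectrum.Prime.Topology

/-!
# Dimension of the closure of a point over a universally catenary local base
-/

set_option autoImplicit false
set_option linter.style.haveILetI false
set_option backward.isDefEq.respectTransparency.types false
set_option maxHeartbeats 1600000
universe u
open CategoryTheory AlgebraicGeometry IsLocalRing

namespace Groth.Agent.L28.DimClosure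

/-- The dimension in the affine case. -/
theorem ringKrullDim_cases {R : Type u} [CommRing R] [IsDomain R] [IsLocalRing R]
    (hR : CAlg.IsUniversallyCatenary R) (B : Type u) [CommRing B] [IsDomain B] [Algebra R B]
    [FaithfulSMul R B] [Algebra.FiniteType R B] (a b : ℕ) (ha : ringKrullDim R = a)
    (hb : Algebra.trdeg R B = b) :
    ∃ n : ℕ, ringKrullDim B = n ∧ n ≤ a + b ∧
      ((∃ Q : Ideal B, Q.IsMaximal ∧ Q.comap (algebraMap R B) = maximalIdeal R) → n = a + b) ∧
      ((∀ Q : Ideal B, Q.IsMaximal → Q.comap (algebraMap R B) ≠ maximalIdeal R) → n + 1 = a + b) := by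
  obtain ⟨Q₀, hQ₀⟩ := Ideal.exists_maximal B
  obtain ⟨h₀, e₀, -, -⟩ := height_maximal hR B a b ha hb Q₀
  by_cases hex : ∃ Q : Ideal B, Q.IsMaximal ∧ Q.comap (algebraMap R B) = maximalIdeal R
  · refine ⟨a + b, le_antisymm ?_ ?_, le_rfl, fun _ => rfl, fun h => ?_⟩
    · refine (ringKrullDim_le_iff_isMaximal_height_le _).mpr fun M hM => ?_
      obtain ⟨h, e, h1, h2⟩ := height_maximal hR B a b ha hb M
      rw [e]
      have : h ≤ a + b := by
        by_cases hc : M.comap (algebraMap R B) = maximalIdeal R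
        · exact (h1 hc).le
        · have := h2 hc; omega
      exact_mod_cast this
    · obtain ⟨Q, hQ, hc⟩ := hex
      obtain ⟨h, e, h1, -⟩ := height_maximal hR B a b ha hb Q
      have := Ideal.height_le_ringKrullDim_of_ne_top hQ.ne_top
      rw [e, h1 hc] at this
      exact this
    · obtain ⟨Q, hQ, hc⟩ := hex
      exact absurd hc (h Q hQ)
  · push Not at hex
    obtain ⟨h, e, -, h2⟩ := height_maximal hR B a b ha hb Q₀
    have hh := h2 (hex Q₀ hQ₀)
    refine ⟨h, le_antisymm ?_ ?_, by omega, fun ⟨Q, hQ, hc⟩ => absurd hc (hex Q hQ), fun _ => hh⟩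
    · refine (ringKrullDim_le_iff_isMaximal_height_le _).mpr fun M hM => ?_
      obtain ⟨h', e', -, h2'⟩ := height_maximal hR B a b ha hb M
      rw [e', show h' = h by have := h2' (hex M hM); omega]
      exact le_rfl
    · have := Ideal.height_le_ringKrullDim_of_ne_top hQ₀.ne_top
      rw [e] at this
      exact this

/-- Transcendence degrees do not see algebraic injective extensions. -/
theorem trdeg_eq_of_isAlgebraic {R B K L : Type u} [CommRing R] [IsDomain R] [CommRing B]
    [IsDomain B] [Field K] [Field L] [Algebra R B] [Algebra R K] [Algebra B L] [Algebra K L]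
    [Algebra R L] [IsScalarTower R B L] [IsScalarTower R K L] [FaithfulSMul R B] [FaithfulSMul R K]
    [FaithfulSMul B L] [Algebra.IsAlgebraic R K] [Algebra.IsAlgebraic B L] :
    Algebra.trdeg R B = Algebra.trdeg K L := by
  haveI : FaithfulSMul K L :=
    (faithfulSMul_iff_algebraMap_injective _ _).mpr (algebraMap K L).injective
  have h1 := trdeg_add_eq R B (A := L)
  have h2 := trdeg_add_eq R K (A := L)
  rw [trdeg_eq_zero (R := B) (A := L), add_zero] at h1
  rw [trdeg_eq_zero (R := R) (A := K), zero_add] at h2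
  rw [h1, h2]

/-- The residue field of a localisation at a prime. -/
theorem residue_localization {B O : Type u} [CommRing B] [CommRing O] [IsLocalRing O] [Algebra B O]
    (P : Ideal B) [P.IsPrime] [IsLocalization.AtPrime O P] :
    RingHom.ker ((residue O).comp (algebraMap B O)) = P ∧
      ∀ z : ResidueField O, ∃ b c : B, c ∉ P ∧
        z * residue O (algebraMap B O c) = residue O (algebraMap B O b) := by
  refine ⟨?_, fun z => ?_⟩
  · ext r
    rw [RingHom.mem_ker, RingHom.comp_apply, residue_eq_zero_iff, mem_maximalIdeal, mem_nonunits_iff,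
      IsLocalization.AtPrime.isUnit_to_map_iff O P, Ideal.mem_primeCompl_iff, not_not]
  · obtain ⟨o, rfl⟩ := residue_surjective z
    obtain ⟨⟨b, c⟩, e⟩ := IsLocalization.surj P.primeCompl o
    exact ⟨b, c, c.2, by rw [← map_mul]; exact congrArg (residue O) e⟩

theorem isAlgebraic_lift {B O : Type u} [CommRing B] [CommRing O] [IsLocalRing O] [Algebra B O]
    (P : Ideal B) [P.IsPrime] [IsLocalization.AtPrime O P]
    [Algebra (B ⧸ P) (ResidueField O)]
    (h : ∀ r, algebraMap (B ⧸ P) (ResidueField O) (Ideal.Quotient.mk P r) =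
      residue O (algebraMap B O r)) :
    FaithfulSMul (B ⧸ P) (ResidueField O) ∧ Algebra.IsAlgebraic (B ⧸ P) (ResidueField O) := by
  obtain ⟨hker, hfr⟩ := residue_localization (O := O) P
  have hinj : Function.Injective (algebraMap (B ⧸ P) (ResidueField O)) := by
    rw [injective_iff_map_eq_zero]
    intro x hx
    obtain ⟨r, rfl⟩ := Ideal.Quotient.mk_surjective x
    rw [h] at hx
    rw [Ideal.Quotient.eq_zero_iff_mem, ← hker]
    exact hx
  refine ⟨(faithfulSMul_iff_algebraMap_injective _ _).mpr hinj, ⟨fun z => ?_⟩⟩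
  obtain ⟨b, c, hc, e⟩ := hfr z
  have hc0 : residue O (algebraMap B O c) ≠ 0 := fun e0 => hc (hker.le e0)
  have hz : z = residue O (algebraMap B O b) * (residue O (algebraMap B O c))⁻¹ := by
    rw [← e, mul_inv_cancel_right₀ hc0]
  rw [hz, ← h, ← h]
  exact (isAlgebraic_algebraMap _).mul (isAlgebraic_algebraMap _).inv

variable {A : Type u} [CommRing A] {X : Scheme.{u}} (f : X ⟶ Spec (CommRingCat.of A))

/-- The structure map on an open. -/
noncomputable def sect (U : X.Opens) : A →+* Γ(X, U) :=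
  ((Scheme.ΓSpecIso (CommRingCat.of A)).inv ≫ f.appLE ⊤ U le_top).hom

theorem germ_sect (U : X.Opens) {z : X} (hz : z ∈ U) (r : A) :
    X.presheaf.germ U z hz (sect f U r) =
      f.stalkMap z (algebraMap A ((Spec.structureSheaf A).presheaf.stalk (f.base z)) r) := by
  have hloc : ((Scheme.ΓSpecIso (CommRingCat.of A)).inv ≫ f.appLE ⊤ U le_top) ≫
      X.presheaf.germ U z hz =
      (Scheme.ΓSpecIso (CommRingCat.of A)).inv ≫
        (Spec (CommRingCat.of A)).presheaf.germ ⊤ (f.base z) trivial ≫ f.stalkMap z := by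
    simp only [Category.assoc, Scheme.Hom.germ_stalkMap]
    simp [Scheme.Hom.appLE]
  exact congrArg (fun φ => φ.hom r) hloc

theorem mem_asIdeal_iff {U : X.Opens} (hU : IsAffineOpen U) {z : X} (hz : z ∈ U) (r : A) :
    r ∈ (f.base z).asIdeal ↔ sect f U r ∈ (hU.primeIdealOf ⟨z, hz⟩).asIdeal := by
  letI : Algebra Γ(X, U) (X.presheaf.stalk z) := (X.presheaf.germ U z hz).hom.toAlgebra
  haveI := hU.isLocalization_stalk ⟨z, hz⟩
  have h1 := IsLocalization.AtPrime.isUnit_to_map_iff
    ((Spec.structureSheaf A).presheaf.stalk (f.base z)) (f.base z).asIdeal r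
  have h2 := IsLocalization.AtPrime.isUnit_to_map_iff (X.presheaf.stalk z)
    (hU.primeIdealOf ⟨z, hz⟩).asIdeal (sect f U r)
  rw [← not_iff_not, ← Ideal.mem_primeCompl_iff, ← Ideal.mem_primeCompl_iff, ← h1, ← h2]
  change _ ↔ IsUnit (X.presheaf.germ U z hz (sect f U r))
  rw [germ_sect]
  exact ⟨fun h => h.map (f.stalkMap z).hom, fun h => isUnit_of_map_unit (f.stalkMap z).hom _ h⟩

variable [IsLocalRing A] [LocallyOfFiniteType f]

/-- The dimension of the trace on an affine open. -/
theorem exists_dim_inter (hA : CAlg.IsUniversallyCatenary A) (x : X) (a b : ℕ)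
    (ha : ringKrullDim (A ⧸ (f.base x).asIdeal) = a)
    (hb : letI := (f.residueFieldMap x).hom.toAlgebra;
      Algebra.trdeg ((Spec (CommRingCat.of A)).residueField (f.base x)) (X.residueField x) = b)
    {U : X.Opens} (hU : IsAffineOpen U) (hxU : x ∈ U) :
    ∃ n : ℕ, topologicalKrullDim (closure ({x} : Set X) ∩ U : Set X) = n ∧ n ≤ a + b ∧
      ((∃ z ∈ closure ({x} : Set X) ∩ U, (f.base z).asIdeal = maximalIdeal A) → n = a + b) ∧
      ((∀ z ∈ closure ({x} : Set X), (f.base z).asIdeal ≠ maximalIdeal A) → n + 1 = a + b) := by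
  set p := (f.base x).asIdeal with hp
  haveI : p.IsPrime := (f.base x).2
  set P := (hU.primeIdealOf ⟨x, hxU⟩).asIdeal with hP
  haveI : P.IsPrime := (hU.primeIdealOf ⟨x, hxU⟩).2
  letI : Algebra A Γ(X, U) := (sect f U).toAlgebra
  haveI : Algebra.FiniteType A Γ(X, U) := by
    have h1 : (f.appLE ⊤ U le_top).hom.FiniteType :=
      LocallyOfFiniteType.finiteType_appLE f (isAffineOpen_top _) hU le_top
    exact RingHom.finiteType_algebraMap.mp
      (h1.comp (RingHom.FiniteType.of_surjective _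
        ((Scheme.ΓSpecIso (CommRingCat.of A)).symm.commRingCatIsoToRingEquiv.surjective)))
  have hpP : p = P.comap (algebraMap A Γ(X, U)) := Ideal.ext fun r => mem_asIdeal_iff f hU hxU r
  let ψ : A ⧸ p →+* Γ(X, U) ⧸ P := Ideal.quotientMap P (algebraMap A Γ(X, U)) hpP.le
  letI : Algebra (A ⧸ p) (Γ(X, U) ⧸ P) := ψ.toAlgebra
  haveI : FaithfulSMul (A ⧸ p) (Γ(X, U) ⧸ P) := (faithfulSMul_iff_algebraMap_injective _ _).mpr
    (Ideal.quotientMap_injective' (hpP.ge))
  haveI : IsScalarTower A (A ⧸ p) (Γ(X, U) ⧸ P) := IsScalarTower.of_algebraMap_eq fun r => rfl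
  haveI : Algebra.FiniteType (A ⧸ p) (Γ(X, U) ⧸ P) :=
    Algebra.FiniteType.of_restrictScalars_finiteType A _ _
  haveI : IsLocalRing (A ⧸ p) :=
    IsLocalRing.of_surjective' (Ideal.Quotient.mk p) Ideal.Quotient.mk_surjective
  -- residue fields
  letI : Algebra Γ(X, U) (X.presheaf.stalk x) := (X.presheaf.germ U x hxU).hom.toAlgebra
  haveI := hU.isLocalization_stalk ⟨x, hxU⟩
  let S : Type u := ((Spec (CommRingCat.of A)).presheaf.stalk (f.base x) : CommRingCat.{u})
  haveI : IsLocalRing S :=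
    inferInstanceAs (IsLocalRing ((Spec (CommRingCat.of A)).presheaf.stalk (f.base x)))
  letI : Algebra A S := StructureSheaf.stalkAlgebra A (f.base x)
  haveI : IsLocalization.AtPrime S p := StructureSheaf.IsLocalization.to_stalk A (f.base x)
  obtain ⟨hkS, -⟩ := residue_localization (O := S) p
  obtain ⟨hkX, -⟩ := residue_localization (O := X.presheaf.stalk x) P
  letI : Algebra (A ⧸ p) (ResidueField S) :=
    (Ideal.Quotient.lift p ((residue S).comp (algebraMap A S)) fun r hr => hkS.ge hr).toAlgebra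
  letI : Algebra (Γ(X, U) ⧸ P) (ResidueField (X.presheaf.stalk x)) :=
    (Ideal.Quotient.lift P ((residue (X.presheaf.stalk x)).comp (algebraMap _ _))
      fun r hr => hkX.ge hr).toAlgebra
  obtain ⟨i1, i2⟩ := isAlgebraic_lift (O := S) p fun r => rfl
  obtain ⟨i3, i4⟩ := isAlgebraic_lift (O := X.presheaf.stalk x) P fun r => rfl
  letI : Algebra (ResidueField S) (ResidueField (X.presheaf.stalk x)) :=
    (f.residueFieldMap x).hom.toAlgebra
  letI : Algebra (A ⧸ p) (ResidueField (X.presheaf.stalk x)) :=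
    ((algebraMap (Γ(X, U) ⧸ P) (ResidueField (X.presheaf.stalk x))).comp ψ).toAlgebra
  haveI : IsScalarTower (A ⧸ p) (Γ(X, U) ⧸ P) (ResidueField (X.presheaf.stalk x)) :=
    IsScalarTower.of_algebraMap_eq' rfl
  haveI : IsScalarTower (A ⧸ p) (ResidueField S) (ResidueField (X.presheaf.stalk x)) :=
    IsScalarTower.of_algebraMap_eq fun c => by
      obtain ⟨r, rfl⟩ := Ideal.Quotient.mk_surjective c
      change residue (X.presheaf.stalk x) (X.presheaf.germ U x hxU (sect f U r)) =
        f.residueFieldMap x ((Spec (CommRingCat.of A)).residue (f.base x) (algebraMap A S r))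
      rw [germ_sect]
      exact (ConcreteCategory.congr_hom (Scheme.residue_residueFieldMap f x) _).symm
  have htr : Algebra.trdeg (A ⧸ p) (Γ(X, U) ⧸ P) = b :=
    (trdeg_eq_of_isAlgebraic (R := A ⧸ p) (B := Γ(X, U) ⧸ P) (K := ResidueField S)
      (L := ResidueField (X.presheaf.stalk x))).trans hb
  obtain ⟨n, hn, hle, h1, h2⟩ := ringKrullDim_cases (isUniversallyCatenary_quotient hA p)
    (Γ(X, U) ⧸ P) a b ha htr
  have hm : (maximalIdeal (A ⧸ p)).comap (Ideal.Quotient.mk p) = maximalIdeal A := by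
    haveI := Ideal.comap_isMaximal_of_surjective (Ideal.Quotient.mk p) Ideal.Quotient.mk_surjective
      (K := maximalIdeal (A ⧸ p))
    exact IsLocalRing.eq_maximalIdeal this
  have hcomap : ∀ Q : Ideal (Γ(X, U) ⧸ P),
      (Q.comap (algebraMap (A ⧸ p) (Γ(X, U) ⧸ P))).comap (Ideal.Quotient.mk p) =
        (Q.comap (Ideal.Quotient.mk P)).comap (algebraMap A Γ(X, U)) := fun Q => by
    rw [Ideal.comap_comap, Ideal.comap_comap]
    congr 1
  refine ⟨n, (Groth.L22.SchemeDim.topologicalKrullDim_closure_inter hU hxU).trans hn, hle,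
    fun ⟨z, ⟨hzx, hzU⟩, hz⟩ => h1 ?_, fun hno => h2 fun Q hQ hc => ?_⟩
  · set q := (hU.primeIdealOf ⟨z, hzU⟩).asIdeal
    have hPq : P ≤ q := by
      refine (PrimeSpectrum.le_iff_specializes (hU.primeIdealOf ⟨x, hxU⟩)
        (hU.primeIdealOf ⟨z, hzU⟩)).mpr (hU.fromSpec.isOpenEmbedding.isInducing.specializes_iff.mp ?_)
      rw [hU.fromSpec_primeIdealOf, hU.fromSpec_primeIdealOf]
      exact specializes_iff_mem_closure.mpr hzx
    obtain ⟨M, hM, hqM⟩ := Ideal.exists_le_maximal (q.map (Ideal.Quotient.mk P)) fun e => by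
      have := Ideal.comap_map_of_surjective (Ideal.Quotient.mk P) Ideal.Quotient.mk_surjective q
      rw [e, Ideal.comap_top, ← RingHom.ker_eq_comap_bot, Ideal.mk_ker, sup_eq_left.mpr hPq] at this
      exact (hU.primeIdealOf ⟨z, hzU⟩).2.ne_top this.symm
    refine ⟨M, hM, ?_⟩
    haveI := hM.isPrime
    refine ((IsLocalRing.maximalIdeal.isMaximal _).eq_of_le (Ideal.IsPrime.comap _).ne_top ?_).symm
    intro c hc
    obtain ⟨r, rfl⟩ := Ideal.Quotient.mk_surjective c
    have hr : r ∈ (f.base z).asIdeal := by rw [hz, ← hm]; exact hc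
    exact hqM (Ideal.mem_map_of_mem _ ((mem_asIdeal_iff f hU hzU r).mp hr))
  · haveI := hQ.isPrime
    let Q0 : PrimeSpectrum Γ(X, U) := ⟨Q.comap (Ideal.Quotient.mk P), inferInstance⟩
    let z := hU.fromSpec Q0
    have hzU : z ∈ U := hU.range_fromSpec.subset ⟨Q0, rfl⟩
    have hzQ : hU.primeIdealOf ⟨z, hzU⟩ = Q0 :=
      hU.fromSpec.isOpenEmbedding.injective (hU.fromSpec_primeIdealOf ⟨z, hzU⟩)
    have hzx : z ∈ closure ({x} : Set X) := by
      refine specializes_iff_mem_closure.mp ?_
      have hsp : hU.primeIdealOf ⟨x, hxU⟩ ⤳ Q0 → x ⤳ z := fun h => by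
        have h' := h.map hU.fromSpec.continuous
        rwa [hU.fromSpec_primeIdealOf ⟨x, hxU⟩] at h'
      refine hsp ((PrimeSpectrum.le_iff_specializes (hU.primeIdealOf ⟨x, hxU⟩) Q0).mp ?_)
      intro r hr
      change Ideal.Quotient.mk P r ∈ Q
      rw [Ideal.Quotient.eq_zero_iff_mem.mpr hr]
      exact Q.zero_mem
    refine hno z hzx (Ideal.ext fun r => ?_)
    rw [mem_asIdeal_iff f hU hzU r, hzQ, ← hm, ← hc]
    exact (SetLike.ext_iff.mp (hcomap Q) r).symm

end Groth.Agent.L28.DimClosure
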