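import Groth.Agent.S0555
import Mathlib.RingTheory.Ideal.KrullsHeightTheorem
import Mathlib.RingTheory.Jacobson.Ring
import Mathlib.RingTheory.Algebraic.Integral
import Mathlib.RingTheory.Polynomial.ScaleRoots
import Mathlib.RingTheory.AlgebraicIndependent.Transcendental
import Mathlib.RingTheory.AlgebraicIndependent.TranscendenceBasis
import Mathlib.RingTheory.FiniteType
import Mathlib.RingTheory.Finiteness.Prod

/-!
# Maximal ideals of finite type algebras over universally catenary local domains
-/

set_option autoImplicit false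
set_option linter.style.haveILetI false
universe u
open Cardinal

namespace Groth.Agent.L28.DimClosure

/-- A finite type extension of a domain which is a field is algebraic. -/
theorem isAlgebraic_of_field {R L : Type u} [CommRing R] [IsDomain R] [Field L] [Algebra R L]
    [FaithfulSMul R L] [Algebra.FiniteType R L] : Algebra.IsAlgebraic R L := by
  let K := FractionRing R
  letI : Algebra K L := FractionRing.liftAlgebra R L
  haveI : Algebra.FiniteType K L := Algebra.FiniteType.of_restrictScalars_finiteType R K L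
  haveI : Module.Finite K L := finite_of_finite_type_of_isJacobsonRing K L
  haveI : Algebra.IsAlgebraic R K := IsLocalization.isAlgebraic K (nonZeroDivisors R)
  exact Algebra.IsAlgebraic.trans R K L

/-- A Noetherian local domain with an extension of finite type which is a field has dimension `≤ 1`. -/
theorem maximalIdeal_height_le_one {R L : Type u} [CommRing R] [IsDomain R] [IsNoetherianRing R]
    [IsLocalRing R] [Field L] [Algebra R L] [FaithfulSMul R L] [Algebra.FiniteType R L] :
    (IsLocalRing.maximalIdeal R).height ≤ 1 := by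
  classical
  haveI := isAlgebraic_of_field (R := R) (L := L)
  obtain ⟨s, hs⟩ := Algebra.FiniteType.out (R := R) (A := L)
  obtain ⟨y, hy0, hy⟩ := Algebra.IsAlgebraic.exists_integral_multiples R s
  have key : ∀ z : L, ∃ n : ℕ, IsIntegral R (y ^ n • z) := fun z => by
    have hz : z ∈ Algebra.adjoin R (s : Set L) := hs ▸ Algebra.mem_top
    induction hz using Algebra.adjoin_induction with
    | mem z hz => exact ⟨1, by rw [pow_one]; exact hy z hz⟩
    | algebraMap r => exact ⟨0, by rw [pow_zero, one_smul]; exact isIntegral_algebraMap⟩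
    | add a b _ _ ha hb =>
      obtain ⟨m, hm⟩ := ha
      obtain ⟨n, hn⟩ := hb
      refine ⟨m + n, ?_⟩
      rw [smul_add]
      refine IsIntegral.add ?_ ?_
      · rw [pow_add, mul_comm, mul_smul]
        exact hm.smul _
      · rw [pow_add, mul_smul]
        exact hn.smul _
    | mul a b _ _ ha hb =>
      obtain ⟨m, hm⟩ := ha
      obtain ⟨n, hn⟩ := hb
      refine ⟨m + n, ?_⟩
      rw [pow_add, ← smul_mul_smul_comm]
      exact hm.mul hn
  have hinj : Function.Injective (algebraMap R L) := FaithfulSMul.algebraMap_injective R L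
  have hmem : ∀ r : Ideal R, r.IsPrime → r ≠ ⊥ → y ∈ r := fun r hr hr0 => by
    obtain ⟨a, har, ha0⟩ := Submodule.exists_mem_ne_zero_of_ne_bot hr0
    obtain ⟨n, hn⟩ := key ((algebraMap R L a)⁻¹)
    obtain ⟨P, hPm, hP⟩ := hn
    have h0 : (P.scaleRoots a).eval (y ^ n) = 0 := by
      apply hinj
      rw [← Polynomial.aeval_algebraMap_apply_eq_algebraMap_eval, map_zero]
      have := Polynomial.scaleRoots_aeval_eq_zero (p := P) (r := a) (a := y ^ n • (algebraMap R L a)⁻¹) hP
      rw [Algebra.smul_def, mul_left_comm, mul_inv_cancel₀ ((map_ne_zero_iff _ hinj).mpr ha0),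
        mul_one] at this
      exact this
    have h1 := congrArg (Ideal.Quotient.mk r) h0
    rw [← Polynomial.eval₂_at_apply, ← Polynomial.eval_map, Polynomial.map_scaleRoots,
      Ideal.Quotient.eq_zero_iff_mem.mpr har, Polynomial.scaleRoots_zero, map_zero,
      Polynomial.eval_smul, Polynomial.eval_pow, Polynomial.eval_X, Polynomial.leadingCoeff_map_of_leadingCoeff_ne_zero,
      hPm.leadingCoeff, map_one, one_smul] at h1
    · exact hr.mem_of_pow_mem _ (hr.mem_of_pow_mem _ (by
        rw [← Ideal.Quotient.eq_zero_iff_mem, map_pow]; exact h1))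
    · rw [hPm.leadingCoeff, map_one]; exact one_ne_zero
    · rw [hPm.leadingCoeff, map_one]; exact one_ne_zero
  have hfin : (Ideal.span {y}).minimalPrimes.Finite := Ideal.finite_minimalPrimes_of_isNoetherianRing R _
  by_contra hcon
  have hsub : (IsLocalRing.maximalIdeal R : Set R) ⊆ ⋃ i ∈ (hfin.toFinset : Set (Ideal R)), (i : Set R) := by
    intro a ha
    rw [Set.mem_iUnion₂]
    by_cases ha0 : a = 0
    · obtain ⟨i, hi⟩ := Ideal.nonempty_minimalPrimes (I := Ideal.span {y}) (fun h => by
        have h1 : (1 : R) ∈ IsLocalRing.maximalIdeal R := by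
          have : IsLocalRing.maximalIdeal R ≠ ⊥ := fun e => hcon (by rw [e, Ideal.height_bot]; exact zero_le_one)
          exact (Ideal.span_le.mpr (Set.singleton_subset_iff.mpr (hmem _ inferInstance this)))
            (h ▸ Submodule.mem_top)
        exact (IsLocalRing.maximalIdeal.isMaximal R).ne_top ((Ideal.eq_top_iff_one _).mpr h1))
      exact ⟨i, hfin.mem_toFinset.mpr hi, ha0 ▸ i.zero_mem⟩
    · obtain ⟨r, hr, hrle⟩ := Ideal.exists_minimalPrimes_le
        (I := Ideal.span {a}) (J := IsLocalRing.maximalIdeal R)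
        (Ideal.span_le.mpr (Set.singleton_subset_iff.mpr ha))
      have hr1 : r.height ≤ 1 := Ideal.height_le_one_of_isPrincipal_of_mem_minimalPrimes _ r hr
      haveI := hr.isPrime
      have har : a ∈ r := hr.le (Ideal.mem_span_singleton_self a)
      have hr0 : r ≠ ⊥ := fun e => ha0 (by rwa [e, Ideal.mem_bot] at har)
      obtain ⟨i, hi, hir⟩ := Ideal.exists_minimalPrimes_le (I := Ideal.span {y}) (J := r)
        (Ideal.span_le.mpr (Set.singleton_subset_iff.mpr (hmem r inferInstance hr0)))
      refine ⟨i, hfin.mem_toFinset.mpr hi, ?_⟩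
      suffices i = r by rw [this]; exact har
      haveI := hi.isPrime
      by_contra hne
      have hlt := Ideal.height_strict_mono_of_isPrime (lt_of_le_of_ne hir hne)
      have hi0 : i.height = 0 := by
        have := hlt.trans_le hr1
        exact ENat.lt_one_iff_eq_zero.mp this
      rw [Ideal.height_eq_zero_iff] at hi0
      have : i = ⊥ := by
        rw [IsDomain.minimalPrimes_eq_singleton_bot] at hi0
        exact hi0
      exact hy0 (by simpa [this] using hi.le (Ideal.mem_span_singleton_self y))
  obtain ⟨i, hi, hmi⟩ := (Ideal.subset_union_prime ⊥ ⊥ (fun i hi _ _ =>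
    ((hfin.mem_toFinset.mp hi).isPrime))).mp hsub
  have hiP := hfin.mem_toFinset.mp hi
  exact hcon ((Ideal.height_mono hmi).trans
    (Ideal.height_le_one_of_isPrincipal_of_mem_minimalPrimes _ i hiP))

theorem isUniversallyCatenary_quotient {A : Type u} [CommRing A] (hA : CAlg.IsUniversallyCatenary A)
    (p : Ideal A) : CAlg.IsUniversallyCatenary (A ⧸ p) := by
  haveI := hA.1
  refine ⟨inferInstance, fun S _ _ hS => ?_⟩
  letI : Algebra A S := ((algebraMap (A ⧸ p) S).comp (Ideal.Quotient.mk p)).toAlgebra
  haveI : IsScalarTower A (A ⧸ p) S := IsScalarTower.of_algebraMap_eq' rfl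
  exact hA.2 S (Algebra.FiniteType.trans (S := A ⧸ p) inferInstance hS)

/-- In a catenary local domain a prime of coheight one has height one less than the dimension. -/
theorem height_add_one {R : Type u} [CommRing R] [IsDomain R] [IsNoetherianRing R] [IsLocalRing R]
    (hR : CAlg.IsCatenary R) (q : Ideal R) [q.IsPrime] (hq : q ≠ IsLocalRing.maximalIdeal R)
    (hdim : ringKrullDim (R ⧸ q) ≤ 1) : q.height + 1 = (IsLocalRing.maximalIdeal R).height := by
  let m : PrimeSpectrum R := ⟨IsLocalRing.maximalIdeal R, inferInstance⟩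
  let q' : PrimeSpectrum R := ⟨q, inferInstance⟩
  have hqm : q' < m := lt_of_le_of_ne (IsLocalRing.le_maximalIdeal (Ideal.IsPrime.ne_top inferInstance))
    (fun e => hq (congrArg PrimeSpectrum.asIdeal e))
  have hcov : q' ⋖ m := ⟨hqm, fun r h1 h2 => by
    have h : (2 : WithBot ℕ∞) ≤ ringKrullDim (R ⧸ q) := by
      rw [ringKrullDim_quotient]
      let l : LTSeries (PrimeSpectrum.zeroLocus (R := R) q) :=
        ((RelSeries.singleton _ (⟨q', le_refl q⟩ : PrimeSpectrum.zeroLocus (R := R) q)).snoc
          ⟨r, h1.le⟩ (by rw [RelSeries.last_singleton]; exact h1)).snoc ⟨m, hqm.le⟩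
          (by rw [RelSeries.last_snoc]; exact h2)
      exact Order.LTSeries.length_le_krullDim l
    exact absurd (h.trans hdim) (by decide)⟩
  obtain ⟨s, hs, hsl⟩ := q.exists_ltSeries_length_eq_height
  obtain ⟨t, ht, htl⟩ := (IsLocalRing.maximalIdeal R).exists_ltSeries_length_eq_height
  have sat : ∀ (P : Ideal R) [P.IsPrime] (l : LTSeries (PrimeSpectrum R)),
      l.last = ⟨P, inferInstance⟩ → (l.length : ℕ∞) = P.height →
      (∀ i : Fin l.length, l (Fin.castSucc i) ⋖ l (Fin.succ i)) ∧ l.head = ⊥ := by
    intro P _ l hl hlen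
    have hlen' : (l.length : ℕ∞) = Order.height l.last := by
      rw [hl, ← PrimeSpectrum.height_eq_orderHeight]; exact hlen
    have hidx := Order.height_eq_index_of_length_eq_height_last hlen'
    refine ⟨fun i => ⟨l.step i, fun z hz1 hz2 => ?_⟩, ?_⟩
    · have e1 := hidx i.castSucc
      have e2 := hidx i.succ
      have h3 : Order.height z < ⊤ :=
        lt_of_le_of_lt (Order.height_mono hz2.le) (by rw [e2]; exact ENat.natCast_lt_top _)
      have h1 := Order.height_strictMono hz1 (by rw [e1]; exact ENat.natCast_lt_top _)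
      have h2 := Order.height_strictMono hz2 h3
      rw [e1] at h1
      rw [e2] at h2
      obtain ⟨k, hk⟩ := ENat.ne_top_iff_exists.mp h3.ne
      rw [← hk] at h1 h2
      simp only [Fin.val_castSucc, Fin.val_succ, Nat.cast_lt] at h1 h2
      omega
    · by_contra hne
      have h0 : (⊥ : PrimeSpectrum R) < l.head := lt_of_le_of_ne bot_le (Ne.symm hne)
      have := Order.length_le_height (p := l.cons ⊥ h0) (x := ⟨P, inferInstance⟩)
        (by rw [RelSeries.last_cons, hl])
      rw [← PrimeSpectrum.height_eq_orderHeight, ← hlen] at this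
      rw [RelSeries.cons_length] at this
      have h2 : (l.length + 1 : ℕ) ≤ l.length := by exact_mod_cast this
      omega
  obtain ⟨hs1, hs0⟩ := sat q s hs hsl
  obtain ⟨ht1, ht0⟩ := sat _ t ht htl
  have hsm : s.last < m := by rw [hs]; exact hqm
  let s' := s.snoc m hsm
  have hlen : s'.length = t.length := hR.2 s' t
    (by rw [RelSeries.head_snoc, hs0, ht0]) (by rw [RelSeries.last_snoc, ht])
    (show ∀ i : Fin (s.length + 1), s' (Fin.castSucc i) ⋖ s' (Fin.succ i) from fun i => by
      refine Fin.lastCases ?_ (fun j => ?_) i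
      · have e1 : s' (Fin.castSucc (Fin.last s.length)) = q' :=
          (RelSeries.snoc_castSucc s m hsm (Fin.last _)).trans hs
        have e2 : s' (Fin.succ (Fin.last s.length)) = m := RelSeries.last_snoc' s m hsm
        exact (e1.symm ▸ e2.symm ▸ hcov)
      · have e1 : s' (Fin.castSucc j.castSucc) = s j.castSucc :=
          RelSeries.snoc_castSucc s m hsm _
        have e2 : s' (Fin.succ j.castSucc) = s j.succ := by
          exact RelSeries.snoc_castSucc s m hsm j.succ
        exact (e1.symm ▸ e2.symm ▸ hs1 j)) ht1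
  rw [← hsl, ← htl, ← hlen]
  push_cast [s', RelSeries.snoc_length]
  rfl

/-- The heights of maximal ideals. -/
theorem height_maximal {R : Type u} [CommRing R] [IsDomain R] [IsLocalRing R]
    (hR : CAlg.IsUniversallyCatenary R) (B : Type u) [CommRing B] [IsDomain B] [Algebra R B]
    [FaithfulSMul R B] [Algebra.FiniteType R B] (a b : ℕ) (ha : ringKrullDim R = a)
    (hb : Algebra.trdeg R B = b) (Q : Ideal B) [Q.IsMaximal] :
    ∃ h : ℕ, Q.height = h ∧
      (Q.comap (algebraMap R B) = IsLocalRing.maximalIdeal R → h = a + b) ∧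
      (Q.comap (algebraMap R B) ≠ IsLocalRing.maximalIdeal R → h + 1 = a + b) := by
  haveI := hR.1
  haveI : IsNoetherianRing B := Algebra.FiniteType.isNoetherianRing R B
  set q := Q.comap (algebraMap R B)
  haveI : q.IsPrime := Ideal.IsPrime.comap _
  haveI : Q.LiesOver q := ⟨rfl⟩
  letI : Field (B ⧸ Q) := Ideal.Quotient.field Q
  haveI : FaithfulSMul (R ⧸ q) (B ⧸ Q) := (faithfulSMul_iff_algebraMap_injective _ _).mpr
    Ideal.algebraMap_quotient_injective
  haveI : Algebra.FiniteType (R ⧸ q) (B ⧸ Q) :=
    Algebra.FiniteType.of_restrictScalars_finiteType R _ _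
  haveI := isAlgebraic_of_field (R := R ⧸ q) (L := B ⧸ Q)
  have hf := Groth.Agent.S0555.result R hR B q Q
  rw [trdeg_eq_zero (R := R ⧸ q) (A := B ⧸ Q), add_zero, hb] at hf
  obtain ⟨hQ, hhQ⟩ := ENat.ne_top_iff_exists.mp (Ideal.height_ne_top (I := Q) Ideal.IsPrime.ne_top')
  obtain ⟨hq, hhq⟩ := ENat.ne_top_iff_exists.mp (Ideal.height_ne_top (I := q) Ideal.IsPrime.ne_top')
  rw [← hhQ, ← hhq] at hf
  have hf' : hQ = hq + b := by exact_mod_cast hf
  have hm : (IsLocalRing.maximalIdeal R).height = (a : ℕ∞) := by
    have := IsLocalRing.maximalIdeal_height_eq_ringKrullDim (R := R)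
    rw [ha] at this
    exact WithBot.coe_injective this
  refine ⟨hQ, hhQ.symm, fun e => ?_, fun e => ?_⟩
  · rw [← e, ← hhq] at hm
    have : hq = a := by exact_mod_cast hm
    omega
  · haveI : IsLocalRing (R ⧸ q) :=
      IsLocalRing.of_surjective' (Ideal.Quotient.mk q) Ideal.Quotient.mk_surjective
    have hdim : ringKrullDim (R ⧸ q) ≤ 1 := by
      rw [← IsLocalRing.maximalIdeal_height_eq_ringKrullDim]
      exact WithBot.coe_le_coe.mpr (maximalIdeal_height_le_one (R := R ⧸ q) (L := B ⧸ Q))
    have := height_add_one (hR.2 R inferInstance) q e hdim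
    rw [← hhq, hm] at this
    have : hq + 1 = a := by exact_mod_cast this
    omega

end Groth.Agent.L28.DimClosure
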